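import Mathlib.GroupTheory.PGroup
import Mathlib.GroupTheory.Commutator.Basic
import Mathlib.Tactic.Group
import Mathlib.Algebra.BigOperators.Group.Finset.Basic
import Mathlib.Algebra.Group.End
import Mathlib.RingTheory.Coprime.Lemmas

/-!
Baer trick: a group of exponent `p` (odd) and class at most 2 as an abelian group, and the consequence:
if a `p`-group `A` normalises a `p'`-group `Q` of operators and `Q` fixes all fixed points of `A`,
then `Q` acts trivially.
-/

namespace Cfsg.Agent.Baer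

open scoped commutatorElement

/-- a group of exponent dividing `p` and class at most two, `p` odd -/
structure ClassTwo (p : ℕ) (R : Type*) [Group R] : Prop where
  odd : Odd p
  cen : ∀ a b c : R, Commute ⁅a, b⁆ c
  exp : ∀ a : R, a ^ p = 1

variable {p : ℕ} {R : Type*} [Group R]

/-- the Baer abelian group on the set `R` -/
def Add' (_ : ClassTwo p R) : Type _ := R

variable {h : ClassTwo p R}

/-- to the Baer group -/
def up (h : ClassTwo p R) (r : R) : Add' h := r

/-- from the Baer group -/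
def down (r : Add' h) : R := r

theorem comm_mul_left (h : ClassTwo p R) (a b c : R) : ⁅a * b, c⁆ = ⁅a, c⁆ * ⁅b, c⁆ := by
  have := (h.cen b c a).eq
  calc ⁅a * b, c⁆ = a * ⁅b, c⁆ * a⁻¹ * ⁅a, c⁆ := by simp only [commutatorElement_def]; group
    _ = ⁅b, c⁆ * ⁅a, c⁆ := by rw [← this, mul_inv_cancel_right]
    _ = _ := (h.cen b c _).eq

theorem comm_mul_right (h : ClassTwo p R) (a b c : R) : ⁅a, b * c⁆ = ⁅a, b⁆ * ⁅a, c⁆ := by
  have := (h.cen a c b).eq
  calc ⁅a, b * c⁆ = ⁅a, b⁆ * (b * ⁅a, c⁆ * b⁻¹) := by simp only [commutatorElement_def]; group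
    _ = _ := by rw [← this, mul_inv_cancel_right]

theorem comm_of_central (h : ClassTwo p R) {z : R} (hz : ∀ c, Commute z c) (a : R) :
    ⁅z, a⁆ = 1 ∧ ⁅a, z⁆ = 1 :=
  ⟨commutatorElement_eq_one_iff_commute.mpr (hz a),
    commutatorElement_eq_one_iff_commute.mpr (hz a).symm⟩

/-- the Baer product -/
def bmul (p : ℕ) (x y : R) : R := x * y * ⁅y, x⁆ ^ ((p + 1) / 2)

theorem bmul_assoc (h : ClassTwo p R) (x y z : R) :
    bmul p (bmul p x y) z = bmul p x (bmul p y z) := by
  set e := (p + 1) / 2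
  have hc : ∀ a b : R, ∀ c, Commute (⁅a, b⁆ ^ e) c := fun a b c => (h.cen a b c).pow_left e
  have l : ⁅z, x * y * ⁅y, x⁆ ^ e⁆ = ⁅z, x⁆ * ⁅z, y⁆ := by
    rw [comm_mul_right h, comm_mul_right h, (comm_of_central h (hc y x) z).2, mul_one]
  have r : ⁅y * z * ⁅z, y⁆ ^ e, x⁆ = ⁅y, x⁆ * ⁅z, x⁆ := by
    rw [comm_mul_left h, comm_mul_left h, (comm_of_central h (hc z y) x).1, mul_one]
  change x * y * ⁅y, x⁆ ^ e * z * ⁅z, x * y * ⁅y, x⁆ ^ e⁆ ^ e =
    x * (y * z * ⁅z, y⁆ ^ e) * ⁅y * z * ⁅z, y⁆ ^ e, x⁆ ^ e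
  rw [l, r, (h.cen z x _).mul_pow, (h.cen y x _).mul_pow]
  calc x * y * ⁅y, x⁆ ^ e * z * (⁅z, x⁆ ^ e * ⁅z, y⁆ ^ e)
      = x * y * (⁅y, x⁆ ^ e * z) * (⁅z, x⁆ ^ e * ⁅z, y⁆ ^ e) := by group
    _ = x * y * z * (⁅y, x⁆ ^ e * ⁅z, x⁆ ^ e * ⁅z, y⁆ ^ e) := by rw [(hc y x z).eq]; group
    _ = x * y * z * (⁅z, y⁆ ^ e * (⁅y, x⁆ ^ e * ⁅z, x⁆ ^ e)) := by rw [← (hc z y _).eq]
    _ = _ := by group

theorem bmul_comm (h : ClassTwo p R) (x y : R) : bmul p x y = bmul p y x := by
  obtain ⟨k, hk⟩ := h.odd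
  have he : (p + 1) / 2 = k + 1 := by omega
  have hinv : ⁅x, y⁆ = ⁅y, x⁆⁻¹ := (commutatorElement_inv y x).symm
  have hyx : y * x = x * y * ⁅y, x⁆ := by
    rw [← (h.cen y x _).eq, commutatorElement_def]; group
  simp only [bmul, he, hinv, hyx, mul_assoc]
  congr 2
  have hp := h.exp ⁅y, x⁆
  rw [hk] at hp
  calc ⁅y, x⁆ ^ (k + 1) = ⁅y, x⁆ ^ (2 * k + 1) * (⁅y, x⁆ * (⁅y, x⁆⁻¹) ^ (k + 1)) := by
        rw [pow_succ' (⁅y, x⁆⁻¹), mul_inv_cancel_left, inv_pow, ← div_eq_mul_inv,
          eq_div_iff_mul_eq', ← pow_add]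
        congr 1
        omega
    _ = _ := by rw [hp, one_mul]

theorem bmul_one_left (x : R) : bmul p 1 x = x := by simp [bmul]

instance mulAdd' (h : ClassTwo p R) : Mul (Add' h) := ⟨fun x y => up h (bmul p (down x) (down y))⟩

instance oneAdd' (h : ClassTwo p R) : One (Add' h) := ⟨up h 1⟩

instance invAdd' (h : ClassTwo p R) : Inv (Add' h) := ⟨fun x => up h (down x)⁻¹⟩

instance commGroupAdd' (h : ClassTwo p R) : CommGroup (Add' h) where
  mul := (· * ·)
  one := 1
  inv := (·⁻¹)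
  mul_assoc x y z := bmul_assoc h (down x) (down y) (down z)
  one_mul x := bmul_one_left (down x)
  mul_one x := (bmul_comm h (down x) 1).trans (bmul_one_left (down x))
  inv_mul_cancel x := show bmul p (down x)⁻¹ (down x) = (1 : R) by
    have : ⁅down x, (down x)⁻¹⁆ = (1 : R) :=
      commutatorElement_eq_one_iff_commute.mpr (Commute.refl _).inv_right
    simp [bmul, this]
  mul_comm x y := bmul_comm h (down x) (down y)

/-- automorphisms of `R` are automorphisms of the Baer group -/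
def lift (h : ClassTwo p R) : MulAut R →* MulAut (Add' h) where
  toFun φ :=
    { toFun := fun x => up h (φ (down x))
      invFun := fun x => up h (φ.symm (down x))
      left_inv := fun x => φ.symm_apply_apply (down x)
      right_inv := fun x => φ.apply_symm_apply (down x)
      map_mul' := fun x y => by
        refine show φ (bmul p (down x) (down y)) = bmul p (φ (down x)) (φ (down y)) from ?_
        simp only [bmul, map_mul, map_pow, map_commutatorElement] }
  map_one' := rfl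
  map_mul' _ _ := rfl

/-- the abelian case -/
theorem abelian_fixed [hp : Fact p.Prime] {V : Type*} [CommGroup V] [Finite V] (hV : IsPGroup p V)
    {K : Type*} [Group K] [Finite K] (φ : K →* MulAut V) (A Q : Subgroup K) (hA : IsPGroup p A)
    (hQ : (Nat.card Q).Coprime p) (hAQ : A ≤ Subgroup.normalizer (Q : Set K))
    (hfix : ∀ v : V, (∀ a ∈ A, φ a v = v) → ∀ q ∈ Q, φ q v = v) :
    ∀ q ∈ Q, ∀ v : V, φ q v = v := by
  classical
  have : Fintype Q := Fintype.ofFinite Q
  let N : V →* V := ∏ q : Q, (φ q).toMonoidHom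
  let π : V →* V := (powMonoidHom (Nat.card Q)) / N
  have hN : ∀ v, N v = ∏ q : Q, φ q v := fun v => MonoidHom.finsetProd_apply ..
  have hNq : ∀ q ∈ Q, ∀ v, φ q (N v) = N v := by
    intro q hq v
    rw [hN, map_prod]
    exact Fintype.prod_equiv (Equiv.mulLeft (⟨q, hq⟩ : Q)) _ _ fun x => by simp
  have hNN : ∀ v, (∀ q ∈ Q, φ q v = v) → N v = v ^ Nat.card Q := by
    intro v hv
    rw [hN, Finset.prod_congr rfl fun (q : Q) _ => hv q q.2, Finset.prod_const, Finset.card_univ,
      Nat.card_eq_fintype_card]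
  have hcomm : ∀ a ∈ A, ∀ v, φ a (π v) = π (φ a v) := by
    intro a ha v
    simp only [π, MonoidHom.div_apply, powMonoidHom_apply, map_div, map_pow, hN, map_prod]
    congr 1
    have hc : ∀ q : Q, a * (q : K) * a⁻¹ ∈ Q := fun q =>
      (Subgroup.mem_normalizer_iff.mp (hAQ ha) q).mp q.2
    have hc' : ∀ q : Q, a⁻¹ * (q : K) * a ∈ Q := fun q => by
      simpa using (Subgroup.mem_normalizer_iff.mp (hAQ (inv_mem ha)) q).mp q.2
    let e : Q ≃ Q :=
      { toFun := fun q => ⟨_, hc q⟩, invFun := fun q => ⟨_, hc' q⟩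
        left_inv := fun q => by simp [mul_assoc]
        right_inv := fun q => by simp [mul_assoc] }
    refine Fintype.prod_equiv e _ _ fun q => ?_
    change _ = φ (a * q * a⁻¹) (φ a v)
    simp
  have hπ : π.range = ⊥ := by
    by_contra hne
    have := (Subgroup.nontrivial_iff_ne_bot π.range).mpr hne
    let act : MulAction A π.range :=
      { smul := fun a w => ⟨φ a w, by
          obtain ⟨v, hv⟩ := w.2
          exact ⟨φ a v, by rw [← hcomm a a.2, hv]⟩⟩
        one_smul := fun w => Subtype.ext (show φ ((1 : A) : K) (w : V) = w by simp)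
        mul_smul := fun a b w => Subtype.ext (show φ ((a * b : A) : K) (w : V) = φ a (φ b w) by simp) }
    have hdvd : p ∣ Nat.card π.range := by
      obtain ⟨k, hk, hk'⟩ := (hV.to_subgroup π.range).nontrivial_iff_card.mp inferInstance
      exact hk' ▸ dvd_pow_self p (by omega)
    have h1 : (1 : π.range) ∈ MulAction.fixedPoints A π.range := fun a =>
      Subtype.ext (map_one (φ a))
    obtain ⟨w, hw, hw1⟩ := hA.exists_fixed_point_of_prime_dvd_card_of_fixed_point _ hdvd h1
    obtain ⟨v, hv⟩ := w.2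
    have hwQ := hfix w fun a ha => congrArg Subtype.val (hw ⟨a, ha⟩)
    have hNw : N (w : V) = 1 := by
      rw [← hv]
      simp only [π, MonoidHom.div_apply, powMonoidHom_apply, map_div, map_pow]
      rw [hNN (N v) fun q hq => hNq q hq v, div_self']
    rw [hNN _ hwQ] at hNw
    obtain ⟨k, hk⟩ := hV (w : V)
    have := (pow_gcd_eq_one (a := (w : V)) (m := Nat.card Q) (n := p ^ k)).mpr ⟨hNw, hk⟩
    rw [hQ.pow_right k, pow_one] at this
    exact hw1 (Subtype.ext this.symm)
  intro q hq v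
  have hv : v ^ Nat.card Q = N v := div_eq_one.mp (hπ.le ⟨v, rfl⟩ : π v = 1)
  obtain ⟨k, hk⟩ := hV (φ q v / v)
  have h2 : (φ q v / v) ^ Nat.card Q = 1 := by
    rw [div_pow, ← map_pow, hv, hNq q hq v, div_self']
  have := (pow_gcd_eq_one (a := φ q v / v) (m := Nat.card Q) (n := p ^ k)).mpr ⟨h2, hk⟩
  rw [hQ.pow_right k, pow_one] at this
  exact div_eq_one.mp this

/-- class two, exponent `p`: a `p'`-group of operators normalised by a `p`-group `A` and fixing
every fixed point of `A` acts trivially. -/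
theorem fixed_of_classTwo [hp : Fact p.Prime] [Finite R] (h : ClassTwo p R)
    {K : Type*} [Group K] [Finite K] (φ : K →* MulAut R) (A Q : Subgroup K) (hA : IsPGroup p A)
    (hQ : (Nat.card Q).Coprime p) (hAQ : A ≤ Subgroup.normalizer (Q : Set K))
    (hfix : ∀ r : R, (∀ a ∈ A, φ a r = r) → ∀ q ∈ Q, φ q r = r) :
    ∀ q ∈ Q, ∀ r : R, φ q r = r := by
  have : Finite (Add' h) := inferInstanceAs (Finite R)
  have hc : Nat.card (Add' h) = Nat.card R := rfl
  obtain ⟨n, hn⟩ := (show IsPGroup p R from fun r => ⟨1, by rw [pow_one]; exact h.exp r⟩).exists_card_eq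
  exact abelian_fixed (IsPGroup.of_card (hc.trans hn)) ((lift h).comp φ) A Q hA hQ hAQ hfix

end Cfsg.Agent.Baer
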